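import Mathlib.Algebra.Homology.HomologySequence
import Mathlib.Algebra.Homology.HomologicalComplexAbelian
import Mathlib.CategoryTheory.Abelian.Projective.Resolution
import Mathlib.Algebra.Category.ModuleCat.Projective
import Mathlib.Algebra.Category.ModuleCat.Abelian
import Mathlib.Algebra.Module.Projective
import Mathlib.Algebra.Homology.ShortComplex.ModuleCat

/-!
# Quotients by acyclic free subcomplexes

For a quasi-isomorphism `f : A' → A` with degreewise short exact `A' → A → Q` and `Q` degreewise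
projective, `Q` is contractible; this gives a chain section of `A → Q`, a retraction of `f`, and
homotopies vanishing on `A'` between retractions.
-/

set_option autoImplicit false
universe v u

open CategoryTheory Limits ZeroObject

namespace Groth.BiextChow

variable {R : Type u} [Ring R]

theorem acyclic_of_quasiIso {A' A Q : ChainComplex (ModuleCat.{v} R) ℕ} (f : A' ⟶ A) (p : A ⟶ Q)
    (w : f ≫ p = 0) (hS : (ShortComplex.mk f p w).ShortExact) [QuasiIso f] (i : ℕ) :
    IsZero (Q.homology i) := by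
  have h1 : HomologicalComplex.homologyMap p i = 0 := by
    rw [← cancel_epi (HomologicalComplex.homologyMap f i), ← HomologicalComplex.homologyMap_comp, w,
      HomologicalComplex.homologyMap_zero, comp_zero]
  suffices Epi (HomologicalComplex.homologyMap p i) from IsZero.of_epi_eq_zero _ h1
  rcases i with _ | i
  · haveI : Epi p := hS.epi_g
    exact HomologicalComplex.epi_homologyMap_of_epi_of_not_rel p 0 (by simp)
  · have hδ : hS.δ (i + 1) i rfl = 0 := by
      rw [← cancel_mono (HomologicalComplex.homologyMap f i), zero_comp]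
      exact hS.δ_comp (i + 1) i rfl
    exact (hS.homology_exact₃ (i + 1) i rfl).epi_f hδ

theorem shortExact_of_degreewise {A' A Q : ChainComplex (ModuleCat.{v} R) ℕ} (f : A' ⟶ A) (p : A ⟶ Q)
    (hf : ∀ q, Function.Injective (f.f q).hom) (hp : ∀ q, Function.Surjective (p.f q).hom)
    (hfp : ∀ q, Function.Exact (f.f q).hom (p.f q).hom) :
    ∃ w, (ShortComplex.mk f p w).ShortExact := by
  have w : f ≫ p = 0 := by
    ext q x
    exact (hfp q).apply_apply_eq_zero x
  refine ⟨w, (HomologicalComplex.shortExact_iff_degreewise_shortExact _).2 fun q => ?_⟩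
  haveI : Mono (f.f q) := (ModuleCat.mono_iff_injective _).2 (hf q)
  haveI : Epi (p.f q) := (ModuleCat.epi_iff_surjective _).2 (hp q)
  exact { exact := (ShortComplex.moduleCat_exact_iff _).2 fun x hx => (hfp q x).1 hx
          mono_f := ‹Mono (f.f q)›
          epi_g := ‹Epi (p.f q)› }

theorem nonempty_homotopy_id_zero (Q : ChainComplex (ModuleCat.{v} R) ℕ) [∀ q, Projective (Q.X q)]
    (h : ∀ i, IsZero (Q.homology i)) : Nonempty (Homotopy (𝟙 Q) 0) := by
  let Z : ModuleCat.{v} R := 0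
  have hZ : IsZero ((ChainComplex.single₀ (ModuleCat.{v} R)).obj Z) :=
    Functor.map_isZero _ (isZero_zero _)
  haveI : QuasiIso (0 : Q ⟶ (ChainComplex.single₀ (ModuleCat.{v} R)).obj Z) := by
    refine ⟨fun i => ?_⟩
    rw [quasiIsoAt_iff_isIso_homologyMap]
    exact isIso_of_source_target_iso_zero _ (h i).isoZero
      ((HomologicalComplex.homologyFunctor (ModuleCat.{v} R) _ i).map_isZero hZ).isoZero
  let P : ProjectiveResolution Z := { complex := Q, π := 0 }
  exact ⟨ProjectiveResolution.liftHomotopy (P := P) (Q := P) (0 : Z ⟶ Z) (𝟙 Q) 0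
    (hZ.eq_of_tgt _ _) (hZ.eq_of_tgt _ _)⟩

theorem exists_chain_section {A' A Q : ChainComplex (ModuleCat.{v} R) ℕ} (f : A' ⟶ A) (p : A ⟶ Q)
    [∀ q, Projective (Q.X q)] (hf : ∀ q, Function.Injective (f.f q).hom)
    (hp : ∀ q, Function.Surjective (p.f q).hom)
    (hfp : ∀ q, Function.Exact (f.f q).hom (p.f q).hom) [QuasiIso f] :
    ∃ (_ : Homotopy (𝟙 Q) 0) (h : Q ⟶ A), h ≫ p = 𝟙 Q := by
  obtain ⟨w, hS⟩ := shortExact_of_degreewise f p hf hp hfp
  obtain ⟨s⟩ := nonempty_homotopy_id_zero Q (acyclic_of_quasiIso f p w hS)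
  have hsec : ∀ q, ∃ σ : Q.X q ⟶ A.X q, σ ≫ p.f q = 𝟙 (Q.X q) := fun q => by
    haveI : Epi (p.f q) := (ModuleCat.epi_iff_surjective _).2 (hp q)
    exact ⟨Projective.factorThru (𝟙 _) (p.f q), Projective.factorThru_comp _ _⟩
  choose σ hσ using hsec
  let ζ : ∀ i j, Q.X i ⟶ A.X j := fun i j => s.hom i j ≫ σ j
  refine ⟨s, Homotopy.nullHomotopicMap ζ, ?_⟩
  rw [Homotopy.nullHomotopicMap_comp]
  have hζ : (fun i j => ζ i j ≫ p.f j) = s.hom := by
    funext i j
    simp [ζ, hσ]
  rw [hζ]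
  ext q : 1
  have hs := s.comm q
  simp only [HomologicalComplex.zero_f, add_zero] at hs
  rw [hs]
  rfl

theorem exists_retraction {A' A Q : ChainComplex (ModuleCat.{v} R) ℕ} (f : A' ⟶ A) (p : A ⟶ Q)
    [∀ q, Projective (Q.X q)] (hf : ∀ q, Function.Injective (f.f q).hom)
    (hp : ∀ q, Function.Surjective (p.f q).hom)
    (hfp : ∀ q, Function.Exact (f.f q).hom (p.f q).hom) [QuasiIso f] :
    ∃ g : A ⟶ A', f ≫ g = 𝟙 A' := by
  obtain ⟨w, hS⟩ := shortExact_of_degreewise f p hf hp hfp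
  obtain ⟨-, h, hh⟩ := exists_chain_section f p hf hp hfp
  haveI : Mono f := hS.mono_f
  have hz : (𝟙 A - p ≫ h) ≫ p = 0 := by simp [hh]
  refine ⟨hS.exact.lift (𝟙 A - p ≫ h) hz, ?_⟩
  rw [← cancel_mono f, Category.assoc, Category.id_comp]
  have := hS.exact.lift_f (𝟙 A - p ≫ h) hz
  exact (congrArg (f ≫ ·) this).trans (by simp [reassoc_of% w])

theorem exists_homotopy_vanishing {A' A Q : ChainComplex (ModuleCat.{v} R) ℕ} (f : A' ⟶ A) (p : A ⟶ Q)
    [∀ q, Projective (Q.X q)] (hf : ∀ q, Function.Injective (f.f q).hom)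
    (hp : ∀ q, Function.Surjective (p.f q).hom)
    (hfp : ∀ q, Function.Exact (f.f q).hom (p.f q).hom) [QuasiIso f]
    (g₁ g₂ : A ⟶ A') (h₁ : f ≫ g₁ = 𝟙 A') (h₂ : f ≫ g₂ = 𝟙 A') :
    ∃ H : Homotopy g₁ g₂, ∀ i j : ℕ, f.f i ≫ H.hom i j = 0 := by
  obtain ⟨w, hS⟩ := shortExact_of_degreewise f p hf hp hfp
  obtain ⟨s, -, -⟩ := exists_chain_section f p hf hp hfp
  haveI : Epi p := hS.epi_g
  have hz : f ≫ (g₁ - g₂) = 0 := by simp [h₁, h₂]
  let k : Q ⟶ A' := hS.exact.desc (g₁ - g₂) hz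
  have hk : p ≫ k = g₁ - g₂ := hS.exact.g_desc _ _
  let H0 : Homotopy (g₁ - g₂) 0 :=
    ((Homotopy.ofEq (show g₁ - g₂ = (p ≫ 𝟙 Q) ≫ k by rw [Category.comp_id, hk])).trans
      ((s.compLeft p).compRight k)).trans (Homotopy.ofEq (by simp))
  refine ⟨Homotopy.equivSubZero.invFun H0, fun i j => ?_⟩
  have hw : f.f i ≫ p.f i = 0 := by rw [← HomologicalComplex.comp_f, w, HomologicalComplex.zero_f]
  simp [H0, Homotopy.equivSubZero, Homotopy.trans, Homotopy.ofEq, reassoc_of% hw]

end Groth.BiextChow
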