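import Mathlib.Algebra.Homology.ShortComplex.ModuleCat
import Mathlib.Algebra.Homology.ShortComplex.HomologicalComplex
import Mathlib.Algebra.Category.ModuleCat.EpiMono
import Mathlib.Algebra.Category.ModuleCat.Abelian

/-!
# Monomorphisms and epimorphisms on homology, on elements
-/

set_option autoImplicit false
universe v u w

open CategoryTheory

namespace Groth.BiextChow

variable {R : Type u} [Ring R] {ι : Type w} {c : ComplexShape ι}
  {K L : HomologicalComplex (ModuleCat.{v} R) c}

theorem exists_cycle (K : HomologicalComplex (ModuleCat.{v} R) c) {i k : ι} (hk : c.next i = k)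
    (x : K.X i) (hx : (K.d i k).hom x = 0) : ∃ z : K.cycles i, (K.iCycles i).hom z = x := by
  subst hk
  let S := K.sc i
  let z0 : LinearMap.ker S.g.hom := ⟨x, hx⟩
  exact ⟨S.moduleCatCyclesIso.inv z0, congr(($(S.moduleCatCyclesIso_inv_iCycles)) z0)⟩

theorem d_iCycles (K : HomologicalComplex (ModuleCat.{v} R) c) (i k : ι) (z : K.cycles i) :
    (K.d i k).hom ((K.iCycles i).hom z) = 0 :=
  congr(($(K.iCycles_d i k)) z)

theorem iCycles_injective (K : HomologicalComplex (ModuleCat.{v} R) c) (i : ι) :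
    Function.Injective (K.iCycles i).hom :=
  (ModuleCat.mono_iff_injective _).1 inferInstance

theorem homologyπ_surjective (K : HomologicalComplex (ModuleCat.{v} R) c) (i : ι) :
    Function.Surjective (K.homologyπ i).hom :=
  (ModuleCat.epi_iff_surjective _).1 inferInstance

theorem homologyπ_eq_zero_iff (K : HomologicalComplex (ModuleCat.{v} R) c) {j i : ι}
    (hj : c.prev i = j) (z : K.cycles i) :
    (K.homologyπ i).hom z = 0 ↔ ∃ w : K.X j, (K.d j i).hom w = (K.iCycles i).hom z := by
  subst hj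
  let S := K.sc i
  have h1 : S.moduleCatHomologyIso.hom (S.homologyπ z) =
      S.moduleCatLeftHomologyData.π (S.moduleCatCyclesIso.hom z) := congr(($(S.π_moduleCatCyclesIso_hom)) z)
  have h2 : (S.moduleCatCyclesIso.hom z).1 = S.iCycles z := congr(($(S.moduleCatCyclesIso_hom_i)) z)
  have hinj := (ModuleCat.mono_iff_injective S.moduleCatHomologyIso.hom).1 inferInstance
  calc (K.homologyπ i).hom z = 0 ↔ S.moduleCatHomologyIso.hom (S.homologyπ z) = 0 :=
        ⟨fun h => (congrArg _ h).trans (map_zero _), fun h => hinj (h.trans (map_zero _).symm)⟩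
    _ ↔ S.moduleCatCyclesIso.hom z ∈ LinearMap.range S.moduleCatToCycles := by
        rw [h1]; exact Submodule.Quotient.mk_eq_zero _
    _ ↔ _ := ⟨fun ⟨w, hw⟩ => ⟨w, (congrArg Subtype.val hw).trans h2⟩,
        fun ⟨w, hw⟩ => ⟨w, Subtype.ext (hw.trans h2.symm)⟩⟩

theorem homologyMap_π_apply (f : K ⟶ L) (i : ι) (z : K.cycles i) :
    (HomologicalComplex.homologyMap f i).hom ((K.homologyπ i).hom z) =
      (L.homologyπ i).hom ((HomologicalComplex.cyclesMap f i).hom z) :=
  congr(($(HomologicalComplex.homologyπ_naturality f i)) z)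

theorem iCycles_cyclesMap (f : K ⟶ L) (i : ι) (z : K.cycles i) :
    (L.iCycles i).hom ((HomologicalComplex.cyclesMap f i).hom z) = (f.f i).hom ((K.iCycles i).hom z) :=
  congr(($(HomologicalComplex.cyclesMap_i f i)) z)

theorem mono_homologyMap_iff (f : K ⟶ L) {j i k : ι} (hj : c.prev i = j) (hk : c.next i = k) :
    Mono (HomologicalComplex.homologyMap f i) ↔
      ∀ x : K.X i, (K.d i k).hom x = 0 → ∀ w : L.X j, (L.d j i).hom w = (f.f i).hom x →
        ∃ w' : K.X j, (K.d j i).hom w' = x := by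
  rw [ModuleCat.mono_iff_injective, injective_iff_map_eq_zero]
  constructor
  · intro h x hx w hw
    obtain ⟨z, rfl⟩ := exists_cycle K hk x hx
    refine (homologyπ_eq_zero_iff K hj z).1 (h _ ?_)
    exact (homologyMap_π_apply f i z).trans
      ((homologyπ_eq_zero_iff L hj _).2 ⟨w, hw.trans (iCycles_cyclesMap f i z).symm⟩)
  · intro h a ha
    obtain ⟨z, rfl⟩ := homologyπ_surjective K i a
    obtain ⟨w, hw⟩ := (homologyπ_eq_zero_iff L hj _).1 ((homologyMap_π_apply f i z).symm.trans ha)
    exact (homologyπ_eq_zero_iff K hj z).2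
      (h _ (d_iCycles K i k z) w (hw.trans (iCycles_cyclesMap f i z)))

theorem epi_homologyMap_iff (f : K ⟶ L) {j i k : ι} (hj : c.prev i = j) (hk : c.next i = k) :
    Epi (HomologicalComplex.homologyMap f i) ↔
      ∀ y : L.X i, (L.d i k).hom y = 0 → ∃ x : K.X i, (K.d i k).hom x = 0 ∧
        ∃ w : L.X j, (L.d j i).hom w = y - (f.f i).hom x := by
  rw [ModuleCat.epi_iff_surjective]
  constructor
  · intro h y hy
    obtain ⟨z, rfl⟩ := exists_cycle L hk y hy
    obtain ⟨a, ha⟩ := h ((L.homologyπ i).hom z)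
    obtain ⟨x, rfl⟩ := homologyπ_surjective K i a
    refine ⟨_, d_iCycles K i k x, ?_⟩
    rw [← iCycles_cyclesMap, ← map_sub]
    refine (homologyπ_eq_zero_iff L hj _).1 ?_
    rw [map_sub, sub_eq_zero]
    exact ha.symm.trans (homologyMap_π_apply f i x)
  · intro h a
    obtain ⟨z, rfl⟩ := homologyπ_surjective L i a
    obtain ⟨x, hx, w, hw⟩ := h _ (d_iCycles L i k z)
    obtain ⟨zx, rfl⟩ := exists_cycle K hk x hx
    refine ⟨(K.homologyπ i).hom zx, (homologyMap_π_apply f i zx).trans (sub_eq_zero.1 ?_).symm⟩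
    rw [← map_sub]
    exact (homologyπ_eq_zero_iff L hj _).2 ⟨w, hw.trans (by rw [map_sub, iCycles_cyclesMap])⟩

end Groth.BiextChow
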