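import Groth.Agent.BiextChow.Contract

/-!
# The degreewise quotient of a chain complex by a subcomplex
-/

set_option autoImplicit false
universe v u

open CategoryTheory

namespace Groth.BiextChow

variable {R : Type u} [Ring R] {A' A : ChainComplex (ModuleCat.{v} R) ℕ} (f : A' ⟶ A)

theorem range_le_comap (i j : ℕ) :
    LinearMap.range (f.f i).hom ≤ (LinearMap.range (f.f j).hom).comap (A.d i j).hom := by
  rintro _ ⟨x, rfl⟩
  exact ⟨(A'.d i j).hom x, congr(($((f.comm i j).symm)) x)⟩

/-- The degreewise quotient `A / f(A')`. -/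
noncomputable def quot : ChainComplex (ModuleCat.{v} R) ℕ where
  X q := ModuleCat.of R ((A.X q) ⧸ LinearMap.range (f.f q).hom)
  d i j := ModuleCat.ofHom ((LinearMap.range (f.f i).hom).mapQ (LinearMap.range (f.f j).hom) (A.d i j).hom
    (range_le_comap f i j))
  shape i j h := by
    apply ModuleCat.hom_ext
    apply Submodule.linearMap_qext
    ext x
    simp [A.shape i j h]
  d_comp_d' i j k _ _ := by
    apply ModuleCat.hom_ext
    apply Submodule.linearMap_qext
    ext x
    have h : (A.d j k).hom ((A.d i j).hom x) = 0 := congr(($(A.d_comp_d i j k)) x)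
    simp [h]

/-- The projection to the quotient. -/
noncomputable def quotπ : A ⟶ quot f where
  f q := ModuleCat.ofHom (LinearMap.range (f.f q).hom).mkQ
  comm' i j _ := rfl

theorem quotπ_surjective (q : ℕ) : Function.Surjective ((quotπ f).f q).hom :=
  Submodule.mkQ_surjective _

theorem quotπ_exact (q : ℕ) : Function.Exact (f.f q).hom ((quotπ f).f q).hom :=
  LinearMap.exact_map_mkQ_range _

theorem projective_quot (h : ∀ q, Module.Free R ((A.X q) ⧸ LinearMap.range (f.f q).hom)) (q : ℕ) :
    Projective ((quot f).X q) := by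
  haveI := h q
  exact inferInstanceAs (Projective (ModuleCat.of R ((A.X q) ⧸ LinearMap.range (f.f q).hom)))

end Groth.BiextChow
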