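import Groth.Agent.BiextChow.HomologyElem
import Mathlib.Algebra.Homology.Monoidal
import Mathlib.Algebra.Category.ModuleCat.Monoidal.Basic
import Mathlib.Algebra.Category.ModuleCat.Colimits
import Mathlib.RingTheory.Flat.Basic
import Mathlib.LinearAlgebra.TensorProduct.RightExactness

/-!
# First homology of a tensor product with a resolution

If `π : P ⟶ Q` resolves a complex `Q` concentrated in degree zero and `C₀` is flat, then
`H₁(C ⊗ P) → H₁(C ⊗ Q)` is an isomorphism.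
-/

set_option autoImplicit false
universe v

open CategoryTheory MonoidalCategory HomologicalComplex

namespace Groth.BiextChow

variable {R : Type v} [CommRing R] (C P : ChainComplex (ModuleCat.{v} R) ℕ)

/-- The inclusion of a summand of the tensor product, as a linear map. -/
noncomputable abbrev inc (a b j : ℕ) (h : a + b = j) :
    ↑(C.X a ⊗ P.X b : ModuleCat.{v} R) →ₗ[R] ↑((C ⊗ P).X j) :=
  (ιTensorObj C P a b j h).hom

theorem inc_induction (j : ℕ) (N : Submodule R ↑((C ⊗ P).X j))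
    (h : ∀ a b (h : a + b = j) (x), inc C P a b j h x ∈ N) (z : ↑((C ⊗ P).X j)) : z ∈ N := by
  have hq : ModuleCat.ofHom N.mkQ = 0 :=
    mapBifunctor.hom_ext (fun a b hab => ModuleCat.hom_ext (LinearMap.ext fun x =>
      (Submodule.Quotient.mk_eq_zero N).2 (h a b hab x)))
  exact (Submodule.Quotient.mk_eq_zero N).1 congr(($hq) z)

/-- The projection to a summand. -/
noncomputable def proj (a b j : ℕ) : (C ⊗ P).X j ⟶ C.X a ⊗ P.X b :=
  mapBifunctorDesc fun a' b' _ =>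
    if h : a' = a ∧ b' = b then eqToHom (by rw [h.1, h.2]; rfl) else 0

theorem inc_injective (a b j : ℕ) (h : a + b = j) : Function.Injective (inc C P a b j h) := by
  have hp : ιTensorObj C P a b j h ≫ proj C P a b j = 𝟙 _ := by
    rw [proj]
    refine (ι_mapBifunctorDesc _ a b h).trans ?_
    rw [dif_pos ⟨rfl, rfl⟩]
    rfl
  intro x y hxy
  have hx : (proj C P a b j).hom (inc C P a b j h x) = x := congr(($hp) x)
  have hy : (proj C P a b j).hom (inc C P a b j h y) = y := congr(($hp) y)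
  rw [← hx, hxy, hy]

theorem d_inc_zero_succ (b : ℕ) (x : ↑(C.X 0 ⊗ P.X (b + 1) : ModuleCat.{v} R)) :
    ((C ⊗ P).d (b + 1) b).hom (inc C P 0 (b + 1) (b + 1) (zero_add _) x) =
      inc C P 0 b b (zero_add _) ((C.X 0 ◁ P.d (b + 1) b).hom x) := by
  have h : ιTensorObj C P 0 (b + 1) (b + 1) (zero_add _) ≫ (C ⊗ P).d (b + 1) b =
      (C.X 0 ◁ P.d (b + 1) b) ≫ ιTensorObj C P 0 b b (zero_add _) := by
    show ιMapBifunctor C P (curriedTensor (ModuleCat.{v} R)) _ 0 (b + 1) (b + 1) _ ≫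
      (mapBifunctor C P (curriedTensor (ModuleCat.{v} R)) _).d (b + 1) b = _
    rw [mapBifunctor.d_eq, Preadditive.comp_add, mapBifunctor.ι_D₁, mapBifunctor.ι_D₂,
      mapBifunctor.d₁_eq_zero _ _ _ _ _ _ _ (by simp),
      mapBifunctor.d₂_eq _ _ _ _ _ (show (ComplexShape.down ℕ).Rel (b + 1) b by simp) _ (zero_add b),
      zero_add]
    simp
  exact congr(($h) x)

theorem d_inc_succ_zero (a : ℕ) (x : ↑(C.X (a + 1) ⊗ P.X 0 : ModuleCat.{v} R)) :
    ((C ⊗ P).d (a + 1) a).hom (inc C P (a + 1) 0 (a + 1) (add_zero _) x) =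
      inc C P a 0 a (add_zero _) ((C.d (a + 1) a ▷ P.X 0).hom x) := by
  have h : ιTensorObj C P (a + 1) 0 (a + 1) (add_zero _) ≫ (C ⊗ P).d (a + 1) a =
      (C.d (a + 1) a ▷ P.X 0) ≫ ιTensorObj C P a 0 a (add_zero _) := by
    show ιMapBifunctor C P (curriedTensor (ModuleCat.{v} R)) _ (a + 1) 0 (a + 1) _ ≫
      (mapBifunctor C P (curriedTensor (ModuleCat.{v} R)) _).d (a + 1) a = _
    rw [mapBifunctor.d_eq, Preadditive.comp_add, mapBifunctor.ι_D₁, mapBifunctor.ι_D₂,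
      mapBifunctor.d₂_eq_zero _ _ _ _ _ _ _ (by simp),
      mapBifunctor.d₁_eq _ _ _ _ (show (ComplexShape.down ℕ).Rel (a + 1) a by simp) _ _ (add_zero a),
      add_zero]
    simp
  exact congr(($h) x)

theorem d_inc_one_one : ∃ s : ℤˣ, ∀ x : ↑(C.X 1 ⊗ P.X 1 : ModuleCat.{v} R),
    ((C ⊗ P).d 2 1).hom (inc C P 1 1 2 rfl x) =
      inc C P 0 1 1 rfl ((C.d 1 0 ▷ P.X 1).hom x) + (s : ℤ) • inc C P 1 0 1 rfl ((C.X 1 ◁ P.d 1 0).hom x) := by
  refine ⟨(ComplexShape.down ℕ).ε₂ (ComplexShape.down ℕ) (ComplexShape.down ℕ) (1, 1), fun x => ?_⟩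
  have h : ιTensorObj C P 1 1 2 rfl ≫ (C ⊗ P).d 2 1 =
      (C.d 1 0 ▷ P.X 1) ≫ ιTensorObj C P 0 1 1 rfl +
        ((ComplexShape.down ℕ).ε₂ (ComplexShape.down ℕ) (ComplexShape.down ℕ) (1, 1) : ℤ) •
          ((C.X 1 ◁ P.d 1 0) ≫ ιTensorObj C P 1 0 1 rfl) := by
    show ιMapBifunctor C P (curriedTensor (ModuleCat.{v} R)) _ 1 1 2 _ ≫
      (mapBifunctor C P (curriedTensor (ModuleCat.{v} R)) _).d 2 1 = _
    rw [mapBifunctor.d_eq, Preadditive.comp_add, mapBifunctor.ι_D₁, mapBifunctor.ι_D₂,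
      mapBifunctor.d₁_eq _ _ _ _ (show (ComplexShape.down ℕ).Rel 1 0 by simp) _ _ (rfl : 0 + 1 = 1),
      mapBifunctor.d₂_eq _ _ _ _ _ (show (ComplexShape.down ℕ).Rel 1 0 by simp) _ (rfl : 1 + 0 = 1)]
    simp [Units.smul_def]
  exact congr(($h) x)

variable {C P} {Q : ChainComplex (ModuleCat.{v} R) ℕ}

theorem whiskerLeft_inc (π : P ⟶ Q) (a b j : ℕ) (h : a + b = j) (x : ↑(C.X a ⊗ P.X b : ModuleCat.{v} R)) :
    ((C ◁ π).f j).hom (inc C P a b j h x) = inc C Q a b j h ((C.X a ◁ π.f b).hom x) := by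
  have e : ιTensorObj C P a b j h ≫ (C ◁ π).f j = (C.X a ◁ π.f b) ≫ ιTensorObj C Q a b j h := by
    show ιMapBifunctor C P (curriedTensor (ModuleCat.{v} R)) _ a b j h ≫
      (mapBifunctorMap (𝟙 C) π (curriedTensor (ModuleCat.{v} R)) _).f j = _
    rw [ι_mapBifunctorMap]
    simp
  exact congr(($e) x)

theorem isIso_homologyMap_one (π : P ⟶ Q) [Module.Flat R (C.X 0)]
    (hQ : ∀ i, i ≠ 0 → Limits.IsZero (Q.X i)) (hsurj : Function.Surjective (π.f 0).hom)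
    (hex0 : Function.Exact (P.d 1 0).hom (π.f 0).hom)
    (hex1 : Function.Exact (P.d 2 1).hom (P.d 1 0).hom) :
    IsIso (HomologicalComplex.homologyMap (C ◁ π) 1) := by
  have hz : ∀ (a b j : ℕ) (h : a + b = j), b ≠ 0 → ∀ x, inc C Q a b j h x = 0 := fun a b j h hb x => by
    haveI : Subsingleton ↑(C.X a ⊗ Q.X b : ModuleCat.{v} R) := ModuleCat.subsingleton_of_isZero
      (Functor.map_isZero ((curriedTensor (ModuleCat.{v} R)).obj (C.X a)) (hQ b hb))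
    exact (congrArg (inc C Q a b j h) (Subsingleton.elim x 0)).trans (map_zero _)
  have hP : ∀ z : ↑((C ⊗ P).X 1), ∃ a b, z = inc C P 0 1 1 rfl a + inc C P 1 0 1 rfl b := by
    intro z
    refine Submodule.mem_sup.1 (inc_induction C P 1
      (LinearMap.range (inc C P 0 1 1 rfl) ⊔ LinearMap.range (inc C P 1 0 1 rfl)) ?_ z) |>.elim ?_
    · intro a b h x
      obtain ⟨rfl, rfl⟩ | ⟨rfl, rfl⟩ : (a = 0 ∧ b = 1) ∨ (a = 1 ∧ b = 0) := by omega
      · exact Submodule.mem_sup_left ⟨x, rfl⟩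
      · exact Submodule.mem_sup_right ⟨x, rfl⟩
    · rintro _ ⟨⟨a, rfl⟩, _, ⟨b, rfl⟩, rfl⟩
      exact ⟨a, b, rfl⟩
  have hQ1 : ∀ z : ↑((C ⊗ Q).X 1), ∃ b, inc C Q 1 0 1 rfl b = z := by
    refine fun z => inc_induction C Q 1 (LinearMap.range (inc C Q 1 0 1 rfl)) (fun a b h x => ?_) z
    obtain ⟨rfl, rfl⟩ | ⟨rfl, rfl⟩ : (a = 0 ∧ b = 1) ∨ (a = 1 ∧ b = 0) := by omega
    · rw [hz 0 1 1 h one_ne_zero x]; exact zero_mem _
    · exact ⟨x, rfl⟩
  have hQ2 : ∀ z : ↑((C ⊗ Q).X 2), ∃ b, inc C Q 2 0 2 rfl b = z := by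
    refine fun z => inc_induction C Q 2 (LinearMap.range (inc C Q 2 0 2 rfl)) (fun a b h x => ?_) z
    by_cases hb : b = 0
    · subst hb; obtain rfl : a = 2 := by omega
      exact ⟨x, rfl⟩
    · rw [hz a b 2 h hb x]; exact zero_mem _
  -- the exact rows
  have e0 : Function.Exact (C.X 0 ◁ P.d 1 0).hom (C.X 0 ◁ π.f 0).hom := lTensor_exact _ hex0 hsurj
  have e0' : Function.Exact (C.X 0 ◁ P.d 2 1).hom (C.X 0 ◁ P.d 1 0).hom :=
    Module.Flat.lTensor_exact (C.X 0) hex1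
  have e1 : Function.Exact (C.X 1 ◁ P.d 1 0).hom (C.X 1 ◁ π.f 0).hom := lTensor_exact _ hex0 hsurj
  have s1 : Function.Surjective (C.X 1 ◁ π.f 0).hom := LinearMap.lTensor_surjective _ hsurj
  have s2 : Function.Surjective (C.X 2 ◁ π.f 0).hom := LinearMap.lTensor_surjective _ hsurj
  have hdQ : ∀ (a : ℕ) x, ((C.d (a + 1) a) ▷ Q.X 0).hom ((C.X (a + 1) ◁ π.f 0).hom x) =
      (C.X a ◁ π.f 0).hom ((C.d (a + 1) a ▷ P.X 0).hom x) := fun a x =>
    congr(($(MonoidalCategory.whisker_exchange (C.d (a + 1) a) (π.f 0))) x)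
  have hd1 : ∀ a b, ((C ⊗ P).d 1 0).hom (inc C P 0 1 1 rfl a + inc C P 1 0 1 rfl b) =
      inc C P 0 0 0 rfl ((C.X 0 ◁ P.d 1 0).hom a + (C.d 1 0 ▷ P.X 0).hom b) := fun a b => by
    rw [map_add, map_add]
    exact congrArg₂ (· + ·) (d_inc_zero_succ C P 0 a) (d_inc_succ_zero C P 0 b)
  obtain ⟨s, hs⟩ := d_inc_one_one C P
  haveI : Mono (HomologicalComplex.homologyMap (C ◁ π) 1) := by
    rw [mono_homologyMap_iff (C ◁ π) (j := 2) (k := 0) (by simp) (by simp)]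
    intro z hzd w hw
    obtain ⟨a, b, rfl⟩ := hP z
    obtain ⟨c, rfl⟩ := hQ2 w
    obtain ⟨c', rfl⟩ := s2 c
    have hb : (C.X 1 ◁ π.f 0).hom (b - (C.d 2 1 ▷ P.X 0).hom c') = 0 := by
      refine inc_injective C Q 1 0 1 rfl ?_
      rw [map_sub, map_sub, map_zero, ← hdQ 1 c', ← d_inc_succ_zero C Q 1]
      refine sub_eq_zero.2 (Eq.trans ?_ hw.symm)
      rw [map_add, whiskerLeft_inc, whiskerLeft_inc, hz 0 1 1 rfl one_ne_zero, zero_add]
    obtain ⟨u, hu⟩ := (e1 _).1 hb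
    let z' := (inc C P 2 0 2 rfl c') + inc C P 1 1 2 rfl ((s : ℤ) • u)
    have hz' : ((C ⊗ P).d 2 1).hom z' =
        inc C P 0 1 1 rfl ((s : ℤ) • (C.d 1 0 ▷ P.X 1).hom u) + inc C P 1 0 1 rfl b := by
      show ((C ⊗ P).d 2 1).hom (inc C P 2 0 2 rfl c' + inc C P 1 1 2 rfl ((s : ℤ) • u)) = _
      rw [map_add, hs, map_zsmul, map_zsmul, map_zsmul, map_zsmul, smul_smul, hu]
      rw [show ((s : ℤ) * (s : ℤ)) = 1 by rw [← Units.val_mul, Int.units_mul_self, Units.val_one],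
        one_smul, map_sub, d_inc_succ_zero C P 1 c']
      abel
    have hker : (C.X 0 ◁ P.d 1 0).hom (a - (s : ℤ) • (C.d 1 0 ▷ P.X 1).hom u) = 0 := by
      refine inc_injective C P 0 0 0 rfl ?_
      have h1 : ((C ⊗ P).d 1 0).hom (((C ⊗ P).d 2 1).hom z') = 0 :=
        congr(($((C ⊗ P).d_comp_d 2 1 0)) z')
      rw [hz', hd1] at h1
      rw [hd1] at hzd
      rw [map_zero, map_sub, map_sub]
      refine sub_eq_zero.2 (add_right_cancel
        (b := inc C P 0 0 0 rfl ((C.d 1 0 ▷ P.X 0).hom b)) ?_)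
      rw [← map_add, ← map_add]
      exact hzd.trans h1.symm
    obtain ⟨v, hv⟩ := (e0' _).1 hker
    refine ⟨z' + inc C P 0 2 2 rfl v, ?_⟩
    rw [map_add, hz', d_inc_zero_succ C P 1 v, hv, map_sub]
    abel
  haveI : Epi (HomologicalComplex.homologyMap (C ◁ π) 1) := by
    rw [epi_homologyMap_iff (C ◁ π) (j := 2) (k := 0) (by simp) (by simp)]
    intro y hy
    obtain ⟨c, rfl⟩ := hQ1 y
    obtain ⟨b, rfl⟩ := s1 c
    have h0 : (C.X 0 ◁ π.f 0).hom ((C.d 1 0 ▷ P.X 0).hom b) = 0 := by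
      refine inc_injective C Q 0 0 0 rfl ?_
      rw [map_zero, ← hdQ 0, ← d_inc_succ_zero C Q 0]
      exact hy
    obtain ⟨a, ha⟩ := (e0 _).1 h0
    refine ⟨inc C P 0 1 1 rfl (-a) + inc C P 1 0 1 rfl b, ?_, 0, ?_⟩
    · rw [hd1, map_neg, ha, neg_add_cancel, map_zero]
    · rw [map_zero, map_add, whiskerLeft_inc, whiskerLeft_inc, hz 0 1 1 rfl one_ne_zero, zero_add,
        sub_self]
  exact isIso_of_mono_of_epi _

end Groth.BiextChow
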